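import Mathlib

/-! # Prescribing a derivation along a hypersurface in characteristic zero -/

set_option autoImplicit false
set_option linter.style.haveILetI false
universe u

open MvPolynomial

noncomputable section

namespace Groth.Agent.LefPen13

variable {k : Type u} [Field k] {L : Type u} [Field L] [Algebra k L] {N : ℕ}

/-- First order deformation of a point. -/
def dualPt (C w : Fin N → L) : MvPolynomial (Fin N) k →ₐ[k] TrivSqZeroExt L L :=
  MvPolynomial.aeval fun t => TrivSqZeroExt.inl (C t) + TrivSqZeroExt.inr (w t)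

theorem fst_dualPt (C w : Fin N → L) (G : MvPolynomial (Fin N) k) :
    (dualPt C w G).fst = MvPolynomial.aeval C G := by
  induction G using MvPolynomial.induction_on with
  | C a => simp [dualPt, TrivSqZeroExt.algebraMap_eq_inl']
  | add p q hp hq => rw [map_add, TrivSqZeroExt.fst_add, hp, hq, map_add]
  | mul_X p t hp =>
    rw [map_mul, TrivSqZeroExt.fst_mul, hp, map_mul]
    simp [dualPt]

theorem snd_dualPt (C w : Fin N → L) (G : MvPolynomial (Fin N) k) :
    (dualPt C w G).snd = ∑ t, MvPolynomial.aeval C (pderiv t G) * w t := by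
  induction G using MvPolynomial.induction_on with
  | C a => simp [dualPt, TrivSqZeroExt.algebraMap_eq_inl']
  | add p q hp hq => simp only [map_add, TrivSqZeroExt.snd_add, hp, hq, add_mul, Finset.sum_add_distrib]
  | mul_X p s hp =>
    rw [map_mul, TrivSqZeroExt.snd_mul, hp, fst_dualPt]
    simp only [dualPt, MvPolynomial.aeval_X, TrivSqZeroExt.fst_add, TrivSqZeroExt.fst_inl, TrivSqZeroExt.fst_inr,
      TrivSqZeroExt.snd_add, TrivSqZeroExt.snd_inl, TrivSqZeroExt.snd_inr, add_zero, zero_add, op_smul_eq_smul,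
      smul_eq_mul, pderiv_mul, map_add, map_mul, add_mul, Finset.sum_add_distrib]
    rw [add_comm, Finset.mul_sum]
    congr 1
    · exact Finset.sum_congr rfl fun t _ => by ring
    · rw [Finset.sum_eq_single s (fun t _ ht => by rw [pderiv_X_of_ne (Ne.symm ht), map_zero, mul_zero, zero_mul])
        (by simp)]
      rw [pderiv_X_self, map_one, mul_one]

/-- In characteristic zero the tangent space of a hypersurface consists of derivations. -/
theorem exists_derivation [CharZero k] [Algebra.EssFiniteType k L] (C : Fin N → L) (f : MvPolynomial (Fin N) k)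
    (hf : Prime f) (hker : ∀ G, MvPolynomial.aeval C G = 0 ↔ f ∣ G) (w : Fin N → L)
    (hw : ∑ t, MvPolynomial.aeval C (pderiv t f) * w t = 0) :
    ∃ D : Derivation k L L, ∀ t, D (C t) = w t := by
  classical
  let I : Ideal (MvPolynomial (Fin N) k) := Ideal.span {f}
  haveI : I.IsPrime := (Ideal.span_singleton_prime hf.ne_zero).2 hf
  let Q := MvPolynomial (Fin N) k ⧸ I
  let φ₀ := dualPt (k := k) C w
  have hφf : φ₀ f = 0 := by
    refine TrivSqZeroExt.ext ?_ ?_
    · rw [fst_dualPt]; exact (hker f).2 dvd_rfl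
    · rw [snd_dualPt]; exact hw
  let φQ : Q →ₐ[k] TrivSqZeroExt L L := Ideal.Quotient.liftₐ I φ₀ fun a ha => by
    obtain ⟨z, rfl⟩ := Ideal.mem_span_singleton'.1 ha
    rw [map_mul, hφf, mul_zero]
  let K := FractionRing Q
  have hunit : ∀ y : nonZeroDivisors Q, IsUnit (φQ y) := by
    rintro ⟨y, hy⟩
    obtain ⟨G, rfl⟩ := Ideal.Quotient.mk_surjective y
    rw [TrivSqZeroExt.isUnit_iff_isUnit_fst, isUnit_iff_ne_zero]
    show (φ₀ G).fst ≠ 0
    rw [fst_dualPt]
    intro h
    exact nonZeroDivisors.ne_zero hy (Ideal.Quotient.eq_zero_iff_mem.2 (Ideal.mem_span_singleton.2 ((hker G).1 h)))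
  let Φ : K →+* TrivSqZeroExt L L := IsLocalization.lift (M := nonZeroDivisors Q) (g := φQ.toRingHom) hunit
  have hΦ : ∀ q : Q, Φ (algebraMap Q K q) = φQ q := fun q => IsLocalization.lift_eq _ q
  have hΦk : ∀ a : k, Φ (algebraMap k K a) = TrivSqZeroExt.inl (algebraMap k L a) := fun a => by
    rw [IsScalarTower.algebraMap_apply k Q K, hΦ, AlgHom.commutes, TrivSqZeroExt.algebraMap_eq_inl']
  letI algKL : Algebra K L := ((TrivSqZeroExt.fstHom k L L).toRingHom.comp Φ).toAlgebra
  letI algKT : Algebra K (TrivSqZeroExt L L) := Φ.toAlgebra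
  haveI : IsScalarTower k K L := IsScalarTower.of_algebraMap_eq fun a => by
    show _ = (Φ (algebraMap k K a)).fst
    rw [hΦk]
    rfl
  haveI : Algebra.EssFiniteType K L := Algebra.EssFiniteType.of_comp k K L
  haveI : CharZero K := charZero_of_injective_algebraMap (algebraMap k K).injective
  haveI : Algebra.FormallySmooth K L := Algebra.FormallySmooth.of_perfectField
  let g : TrivSqZeroExt L L →ₐ[K] L :=
    { (TrivSqZeroExt.fstHom k L L).toRingHom with commutes' := fun _ => rfl }
  have hg : Function.Surjective g := fun x => ⟨TrivSqZeroExt.inl x, rfl⟩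
  have hg' : IsNilpotent (RingHom.ker (g : TrivSqZeroExt L L →+* L)) := by
    refine ⟨2, ?_⟩
    refine (pow_two (M := Ideal (TrivSqZeroExt L L)) _).trans ?_
    rw [Ideal.zero_eq_bot, eq_bot_iff, Ideal.mul_le]
    intro a ha b hb
    rw [Ideal.mem_bot]
    have ha' : a.fst = 0 := ha
    have hb' : b.fst = 0 := hb
    refine TrivSqZeroExt.ext ?_ ?_
    · rw [TrivSqZeroExt.fst_mul, ha', zero_mul, TrivSqZeroExt.fst_zero]
    · rw [TrivSqZeroExt.snd_mul, ha', hb', TrivSqZeroExt.snd_zero]
      simp
  let Ψ : L →ₐ[K] TrivSqZeroExt L L := Algebra.FormallySmooth.liftOfSurjective (AlgHom.id K L) g hg hg'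
  have hfst : ∀ x, (Ψ x).fst = x := fun x =>
    Algebra.FormallySmooth.liftOfSurjective_apply (AlgHom.id K L) g hg hg' x
  have hΨk : ∀ a : k, Ψ (algebraMap k L a) = TrivSqZeroExt.inl (algebraMap k L a) := fun a => by
    rw [IsScalarTower.algebraMap_apply k K L, AlgHom.commutes]
    exact (hΦk a).trans (congrArg _ (IsScalarTower.algebraMap_apply k K L a))
  let D₀ : L →ₗ[k] L :=
    { toFun := fun x => (Ψ x).snd
      map_add' := fun x y => by rw [map_add]; exact TrivSqZeroExt.snd_add _ _
      map_smul' := fun a x => by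
        rw [Algebra.smul_def, map_mul, hΨk, TrivSqZeroExt.snd_mul, RingHom.id_apply, Algebra.smul_def]
        simp [hfst, Algebra.smul_def] }
  refine ⟨Derivation.mk' D₀ fun x y => ?_, fun t => ?_⟩
  · show (Ψ (x * y)).snd = _
    rw [map_mul, TrivSqZeroExt.snd_mul, hfst, hfst]
    simp [D₀, mul_comm]
  · show (Ψ (C t)).snd = w t
    have e : Φ (algebraMap Q K (Ideal.Quotient.mk I (MvPolynomial.X t))) = φ₀ (MvPolynomial.X t) := hΦ _
    have e1 : C t = algebraMap K L (algebraMap Q K (Ideal.Quotient.mk I (MvPolynomial.X t))) := by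
      show C t = (Φ _).fst
      rw [e, fst_dualPt, MvPolynomial.aeval_X]
    rw [e1, AlgHom.commutes]
    show (Φ _).snd = _
    rw [e, show φ₀ (MvPolynomial.X t) = _ from MvPolynomial.aeval_X _ t]
    simp

end Groth.Agent.LefPen13
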