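import Groth.Agent.Lib.LefPen13.CharZ.Rank
import Groth.Agent.Lib.LefPen13.Exist1
import Groth.Agent.Lib.LefPen13.Exist2

/-! # A hyperplane with one node when the dual variety is a hypersurface, in characteristic zero -/

set_option autoImplicit false
set_option linter.style.haveILetI false
set_option linter.unusedSectionVars false
set_option backward.isDefEq.respectTransparency false
set_option backward.isDefEq.respectTransparency.types false

universe u

open CategoryTheory CategoryTheory.Limits AlgebraicGeometry TopologicalSpace MvPolynomial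
open Groth.Agent.H2Alg

noncomputable section

namespace Groth.Agent.LefPen13

theorem exists_pderiv_not_dvd {k : Type u} [Field k] [CharZero k] {N : ℕ} (f : MvPolynomial (Fin N) k) (hf : Prime f) :
    ∃ p, ¬ f ∣ pderiv p f := by
  classical
  obtain ⟨e, he, p, hep⟩ : ∃ e ∈ f.support, ∃ p, e p ≠ 0 := by
    by_contra! hall
    have hC : f = MvPolynomial.C (f.coeff 0) := by
      ext e
      rw [coeff_C]
      by_cases h : (0 : Fin N →₀ ℕ) = e
      · rw [if_pos h, h]
      · rw [if_neg h]
        by_contra hne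
        exact h (Finsupp.ext fun p => (hall e (mem_support_iff.2 hne) p).symm)
    refine hf.not_unit ?_
    rw [hC]
    refine (isUnit_iff_ne_zero.2 fun h0 => hf.ne_zero ?_).map MvPolynomial.C
    rw [hC, h0, map_zero]
  obtain ⟨e', rfl⟩ : ∃ e', e = e' + Finsupp.single p 1 :=
    ⟨e - Finsupp.single p 1, (tsub_add_cancel_of_le (Finsupp.single_le_iff.2 (by omega))).symm⟩
  have hne : pderiv p f ≠ 0 := fun h0 => by
    have h1 := congrArg (MvPolynomial.coeff e') h0
    rw [MvPolynomial.coeff_pderiv, coeff_zero, mul_eq_zero] at h1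
    exact h1.elim (mem_support_iff.1 he) (fun h2 => Nat.cast_add_one_ne_zero (e' p) h2)
  refine ⟨p, fun ⟨q, hq⟩ => ?_⟩
  have h1 : (pderiv p f).totalDegree < f.totalDegree := by
    have hle : ∀ m ∈ (pderiv p f).support, m.degree + 1 ≤ f.totalDegree := by
      intro m hm
      rw [mem_support_iff, MvPolynomial.coeff_pderiv] at hm
      have h2 := MvPolynomial.le_totalDegree (mem_support_iff.2 (left_ne_zero_of_mul hm))
      change (m + Finsupp.single p 1).degree ≤ _ at h2
      rw [map_add, Finsupp.degree_single] at h2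
      exact h2
    have hpos : 1 ≤ f.totalDegree := by
      have h2 := MvPolynomial.le_totalDegree he
      change (e' + Finsupp.single p 1).degree ≤ _ at h2
      rw [map_add, Finsupp.degree_single] at h2
      omega
    refine lt_of_le_of_lt (Finset.sup_le fun m hm => ?_ : (pderiv p f).totalDegree ≤ f.totalDegree - 1) (by omega)
    show m.degree ≤ _
    have := hle m hm
    omega
  have hq0 : q ≠ 0 := fun h0 => hne (by rw [hq, h0, mul_zero])
  rw [hq, MvPolynomial.totalDegree_mul_of_isDomain hf.ne_zero hq0] at h1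
  omega

theorem eval_linear {k : Type u} [Field k] {n : ℕ} {q : MvPolynomial (Fin n) k} (hq : q.IsHomogeneous 1)
    (v : Fin n → k) : MvPolynomial.eval v q = ∑ s, q.coeff (Finsupp.single s 1) * v s := by
  classical
  have h := sum_pderiv hq v
  have hc : ∀ s, MvPolynomial.eval v (pderiv s q) = q.coeff (Finsupp.single s 1) := fun s => by
    have h0 : (pderiv s q).totalDegree = 0 := Nat.le_zero.1 (hq.pderiv.totalDegree_le)
    rw [MvPolynomial.totalDegree_eq_zero_iff_eq_C.1 h0, eval_C, MvPolynomial.coeff_pderiv]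
    simp
  simp only [hc, Nat.cast_one, one_mul] at h
  rw [← h]
  exact Finset.sum_congr rfl fun s _ => mul_comm _ _

variable {k : Type u} [Field k] [IsAlgClosed k] {r : ℕ} {X : Scheme.{u}} (i : X ⟶ CohB1.ProjSpace r k)
  [IsClosedImmersion i] [Smooth (i ≫ CohB1.ProjSpace.toSpec r k)] [IrreducibleSpace X] {d : ℕ} {N : ℕ}
  (b : Module.Basis (Fin N) k (LefPen.Form r k d))

include b in
/-- Vanishing on the singular forms over an open piece of one chart propagates. -/
theorem vanish_global {n : ℕ} (hd : 1 ≤ d) (j : Fin (r + 1)) (χ₀ : A i j →ₐ[k] k) (P : Coord k (A i j) n)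
    (hP : P.f ≠ 0) (G : MvPolynomial (Fin N) k)
    (hG : ∀ (χ : A i j →ₐ[k] k) c, χ P.f ≠ 0 → Bad (fam i b j) χ c → MvPolynomial.eval c G = 0) :
    ∀ F, Singular i F → MvPolynomial.eval (b.equivFun F) G = 0 := by
  haveI := isIntegral i
  haveI : ∀ j, Algebra.Smooth k (A i j) := fun j => smooth i j
  haveI := isDomain_of_pt i j χ₀
  have hj : ∀ (χ : A i j →ₐ[k] k) c, Bad (fam i b j) χ c → MvPolynomial.eval c G = 0 := fun χ c hc =>
    vanish_of_open (fam i b j) (jets i b hd j) G hP (fun χ' h' c' => hG χ' c' h') χ c hc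
  rintro F ⟨l, χ, hχ⟩
  haveI := isDomain_of_pt i l χ
  refine vanish_of_open (fam i b l) (jets i b hd l) G (s := π i l (MvPolynomial.X j)) (fun h0 => ?_)
    (fun χ' hχ' c hc => ?_) χ _ ((bad_iff i b l χ _).2 (by rwa [LinearEquiv.symm_apply_apply]))
  · have := congrArg χ₀ (π_form_eq_zero i (⟨MvPolynomial.X j, LefPen.X_mem r k j⟩ : LefPen.Form r k 1) l j
      ⟨_, pX_mem i l χ⟩ h0)
    rw [π_X_self, map_one, map_zero] at this
    exact one_ne_zero this
  · obtain ⟨χ'', -, hiff⟩ := transfer i l j χ' hχ'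
    exact hj χ'' c ((bad_iff i b j χ'' c).2 ((hiff d (b.equivFun.symm c)).2 ((bad_iff i b l χ' c).1 hc)))

variable [CharZero k] {m : ℕ} [SmoothOfRelativeDimension (m + 1) (i ≫ CohB1.ProjSpace.toSpec r k)]

/-- When the singular hyperplanes form a hypersurface, one of them has a single node. -/
theorem exists_oneNode_one {N : ℕ} (b : Module.Basis (Fin N) k (LefPen.Form r k 1)) (f : MvPolynomial (Fin N) k)
    (hf : Prime f) (hfS : ∀ F, Singular i F → MvPolynomial.eval (b.equivFun F) f = 0)
    (hI : ∀ G : MvPolynomial (Fin N) k, (∀ F, Singular i F → MvPolynomial.eval (b.equivFun F) G = 0) → f ∣ G) :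
    ∃ F : LefPen.Form r k 1, OneNode i F (m + 1) := by
  classical
  haveI := isIntegral i
  haveI : ∀ j, Algebra.Smooth k (A i j) := fun j => smooth i j
  obtain ⟨p, hp⟩ := exists_pderiv_not_dvd f hf
  have hchart : ∀ (l : Fin (r + 1)) (χ' : A i l →ₐ[k] k) (P : Coord k (A i l) (m + 1)) (hχ' : χ' P.f ≠ 0),
      (∀ (χ : A i l →ₐ[k] k) c, χ P.f ≠ 0 → Bad (fam i b l) χ c → ∀ s t,
        χ (fam i b l t) * MvPolynomial.eval c (pderiv s f) = χ (fam i b l s) * MvPolynomial.eval c (pderiv t f)) ∧
      ∃ (χ : A i l →ₐ[k] k) (hχ : χ P.f ≠ 0) (c : Fin N → k), Bad (fam i b l) χ c ∧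
        MvPolynomial.eval c (pderiv p f) ≠ 0 ∧ (hess P (fam i b l) χ hχ c).det ≠ 0 := by
    intro l χ' P hχ'
    haveI := isDomain_of_pt i l χ'
    have hP0 : P.f ≠ 0 := fun e => hχ' (by rw [e, map_zero])
    refine char_zero_chart P hP0 (fam i b l) (jets i b le_rfl l) f hf p hp (fun χ c hc => ?_) fun G hG =>
      hI G (vanish_global i b le_rfl l χ' P hP0 G hG)
    have := hfS (b.equivFun.symm c) ⟨l, χ, (bad_iff i b l χ c).1 hc⟩
    rwa [LinearEquiv.apply_symm_apply] at this
  obtain ⟨j, ⟨χ₀⟩⟩ := exists_point i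
  obtain ⟨P, hP⟩ := exists_coord (locally_std i (m + 1) j) χ₀
  obtain ⟨hid, χ, hχ, c, hc, hγ, hdet⟩ := hchart j χ₀ P hP
  let F := b.equivFun.symm c
  have hs : π i j F.1 ∈ RingHom.ker χ ^ 2 := (bad_iff i b j χ c).1 hc
  obtain ⟨τ, h1, h2, h3, h4⟩ := P.exists_expansion (locally_std i (m + 1) j) χ hχ
  have hτ : IsExp P χ τ := ⟨hχ, h1, h2, h3, h4⟩
  refine ⟨F, j, χ, nodeAt_of_one i F (Nat.le_add_left 1 m) j χ hs P τ hτ ?_, fun l χ' hl => ?_⟩
  · intro v hv _
    by_contra hall
    push Not at hall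
    refine hdet (Matrix.exists_mulVec_eq_zero_iff.1 ⟨v, hv, funext fun l => ?_⟩)
    let z := τ (algebraMap (A i j) P.B (π i j F.1))
    let L : Fin (m + 1) → P.B →ₗ[k] P.B := fun l =>
      { toFun := P.pd l, map_add' := P.pd_add l, map_smul' := P.pd_smul l }
    have key : ∀ s, hess P (fam i b j) χ hχ c l s = (pderiv l (qp z)).coeff (Finsupp.single s 1) := by
      intro s
      rw [MvPolynomial.coeff_pderiv, coeff_qp _ (by rw [map_add, Finsupp.degree_single, Finsupp.degree_single]),
        ← MvPowerSeries.coeff_pderiv,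
        show MvPowerSeries.coeff (Finsupp.single s 1) (MvPowerSeries.pderiv k l z) =
          MvPowerSeries.constantCoeff (MvPowerSeries.pderiv k s (MvPowerSeries.pderiv k l z)) by
          rw [← MvPowerSeries.coeff_zero_eq_constantCoeff_apply, MvPowerSeries.coeff_pderiv (i := s)]
          simp]
      show _ = MvPowerSeries.constantCoeff (MvPowerSeries.pderiv k s (MvPowerSeries.pderiv k l
        (τ (algebraMap (A i j) P.B (π i j F.1)))))
      rw [hτ.hpd, hτ.hpd, hτ.hcc, algebraMap_frm i b j P c]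
      show ∑ t, c t * P.pt χ hχ (L s (L l (algebraMap (A i j) P.B (fam i b j t)))) =
        P.pt χ _ (L s (L l (∑ t, c t • algebraMap (A i j) P.B (fam i b j t))))
      rw [map_sum, map_sum, map_sum]
      refine Finset.sum_congr rfl fun t _ => ?_
      rw [map_smul, map_smul, map_smul, smul_eq_mul]
    show ∑ s, hess P (fam i b j) χ hχ c l s * v s = 0
    simp only [key]
    rw [← eval_linear (qp_isHomogeneous z).pderiv v]
    exact hall l
  · obtain ⟨P', hP'⟩ := exists_coord (locally_std i (m + 1) l) χ'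
    have hid' := (hchart l χ' P' hP').1
    let V : Fin (r + 1) → k := fun x =>
      ∑ t, b.equivFun (⟨MvPolynomial.X x, LefPen.X_mem r k x⟩ : LefPen.Form r k 1) t * MvPolynomial.eval c (pderiv t f)
    have hV : ∀ (l : Fin (r + 1)) (χ' : A i l →ₐ[k] k),
        (∀ s t, χ' (fam i b l t) * MvPolynomial.eval c (pderiv s f) = χ' (fam i b l s) * MvPolynomial.eval c (pderiv t f)) →
        ∀ x, coords i l χ' x * MvPolynomial.eval c (pderiv p f) = χ' (fam i b l p) * V x := by
      intro l χ' h x
      let Xf : LefPen.Form r k 1 := ⟨MvPolynomial.X x, LefPen.X_mem r k x⟩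
      have e : π i l Xf.1 = ∑ t, b.equivFun Xf t • fam i b l t := by
        rw [sum_fam, LinearEquiv.symm_apply_apply]
      show χ' (π i l Xf.1) * _ = _
      rw [e, map_sum, Finset.sum_mul, Finset.mul_sum]
      refine Finset.sum_congr rfl fun t _ => ?_
      rw [map_smul, smul_eq_mul]
      linear_combination (b.equivFun Xf t) * h p t
    have e₀ := hV j χ (hid χ c hχ hc)
    have e₁ := hV l χ' (hid' χ' c hP' ((bad_iff i b l χ' c).2 hl))
    intro a a'
    refine mul_right_cancel₀ (mul_ne_zero hγ hγ) ?_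
    linear_combination (coords i l χ' a' * MvPolynomial.eval c (pderiv p f)) * e₀ a +
      (χ (fam i b j p) * V a) * e₁ a' -
      (coords i l χ' a * MvPolynomial.eval c (pderiv p f)) * e₀ a' -
      (χ (fam i b j p) * V a') * e₁ a

end Groth.Agent.LefPen13
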