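import Mathlib

/-! # Reflexivity over a function field -/

set_option autoImplicit false
universe u

noncomputable section

namespace Groth.Agent.LefPen13

/-- If every vector orthogonal to `γ` is the velocity of the member `C`, the tangency point is proportional to `γ`
and the second derivatives of the member form an invertible matrix. -/
theorem reflexive_step {k L : Type u} [Field k] [Field L] [Algebra k L] {n N : ℕ} (C γ : Fin N → L)
    (R : Fin N → Option (Fin n) → L) (Rd : Fin N → Option (Fin n) → Fin n → L)
    (hR : ∀ o, ∑ t, C t * R t o = 0) (hRd : ∀ t s, Rd t none s = R t (some s))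
    (Y : Derivation k L L → Fin n → L) (hD : ∀ D t o, D (R t o) = ∑ s, Rd t o s * Y D s)
    (S : Option (Fin n) → Fin N → L) (hS : ∀ o o', ∑ t, S o t * R t o' = if o = o' then 1 else 0)
    (hder : ∀ w : Fin N → L, ∑ t, γ t * w t = 0 → ∃ D : Derivation k L L, ∀ t, D (C t) = w t)
    (p : Fin N) (hp : γ p ≠ 0) :
    (∀ s t, R t none * γ s = R s none * γ t) ∧
      (Matrix.of fun l s => ∑ t, C t * Rd t (some l) s).det ≠ 0 := by
  classical
  let H : Fin n → Fin n → L := fun l s => ∑ t, C t * Rd t (some l) s
  have key : ∀ D o, (∑ t, R t o * D (C t)) + ∑ s, (∑ t, C t * Rd t o s) * Y D s = 0 := by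
    intro D o
    have h := congrArg D (hR o)
    rw [map_sum, map_zero] at h
    refine Eq.trans ?_ h
    simp only [Finset.sum_mul]
    rw [Finset.sum_comm, ← Finset.sum_add_distrib]
    refine Finset.sum_congr rfl fun t _ => ?_
    rw [Derivation.leibniz, hD, smul_eq_mul, smul_eq_mul, Finset.mul_sum, add_comm]
    simp only [mul_assoc]
  have h0 : ∀ D : Derivation k L L, ∑ t, R t none * D (C t) = 0 := fun D => by
    have h := key D none
    simp only [hRd, hR, zero_mul, Finset.sum_const_zero, add_zero] at h
    exact h
  -- a vector killing all admissible velocities is proportional to `γ`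
  have hprop : ∀ a : Fin N → L, (∀ D : Derivation k L L, ∑ t, a t * D (C t) = 0) →
      ∀ s t, a t * γ s = a s * γ t := by
    intro a ha s t
    let w : Fin N → L := γ s • Pi.single t 1 - γ t • Pi.single s 1
    have hw : ∀ b : Fin N → L, ∑ x, b x * w x = γ s * b t - γ t * b s := fun b => by
      simp only [w, Pi.sub_apply, Pi.smul_apply, smul_eq_mul, mul_sub, Finset.sum_sub_distrib, Pi.single_apply,
        mul_ite, mul_one, mul_zero, Finset.sum_ite_eq', Finset.mem_univ, if_true]
      ring
    obtain ⟨D, hDw⟩ := hder w (by rw [hw]; ring)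
    have h := ha D
    simp only [hDw] at h
    rw [hw] at h
    linear_combination h
  have hid := hprop (fun t => R t none) h0
  refine ⟨hid, fun hd => ?_⟩
  obtain ⟨v, hv0, hv⟩ := Matrix.exists_vecMul_eq_zero_iff.2 hd
  let a : Fin N → L := fun t => ∑ l, v l * R t (some l)
  have ha : ∀ D : Derivation k L L, ∑ t, a t * D (C t) = 0 := fun D => by
    have h : ∑ l, v l * ((∑ t, R t (some l) * D (C t)) + ∑ s, H l s * Y D s) = 0 :=
      Finset.sum_eq_zero fun l _ => by rw [key D (some l), mul_zero]
    simp only [mul_add, Finset.mul_sum, Finset.sum_add_distrib] at h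
    rw [Finset.sum_comm (f := fun l s => v l * (H l s * Y D s))] at h
    have h1 : ∀ s, ∑ l, v l * H l s = 0 := fun s => congrFun hv s
    simp only [← mul_assoc, ← Finset.sum_mul, h1, zero_mul, Finset.sum_const_zero, add_zero] at h
    rw [← h, Finset.sum_comm]
    refine Finset.sum_congr rfl fun t _ => ?_
    simp only [a, Finset.sum_mul, mul_assoc]
  have hga : ∀ t, a t * γ p = a p * γ t := fun t => hprop a ha p t
  have hgr : ∀ t, R t none * γ p = R p none * γ t := fun t => hid p t
  have hsum : ∀ o, R p none * ∑ t, S o t * γ t = (if o = none then 1 else 0) * γ p := fun o => by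
    rw [Finset.mul_sum, ← hS o none, Finset.sum_mul]
    exact Finset.sum_congr rfl fun t _ => by linear_combination -(S o t) * hgr t
  have h1 := hsum none
  rw [if_pos rfl, one_mul] at h1
  refine hv0 (funext fun l => ?_)
  have h2 := hsum (some l)
  rw [if_neg (Option.some_ne_none l), zero_mul] at h2
  have h3 : ∑ t, S (some l) t * γ t = 0 :=
    (mul_eq_zero.1 h2).resolve_left fun e => hp (by rw [← h1, e, zero_mul])
  have h4 : ∑ t, S (some l) t * a t = v l := by
    simp only [a, Finset.mul_sum]
    rw [Finset.sum_comm, Finset.sum_eq_single l]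
    · simp only [mul_left_comm (S (some l) _), ← Finset.mul_sum, hS, if_pos, mul_one]
    · intro l' _ hl'
      simp only [mul_left_comm (S (some l) _), ← Finset.mul_sum, hS,
        if_neg (show (some l : Option (Fin n)) ≠ some l' by simpa using Ne.symm hl'), mul_zero]
    · simp
  have h5 : v l * γ p = a p * ∑ t, S (some l) t * γ t := by
    rw [← h4, Finset.sum_mul, Finset.mul_sum]
    exact Finset.sum_congr rfl fun t _ => by linear_combination (S (some l) t) * hga t
  rw [h3, mul_zero] at h5
  exact (mul_eq_zero.1 h5).resolve_right hp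

end Groth.Agent.LefPen13
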