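import Groth.Agent.Lib.LefPen13.Jets
import Groth.Agent.Lib.LefPen13.CharZ.Deriv
import Groth.Agent.Lib.LefPen13.CharZ.Step

/-! # The dual hypersurface in characteristic zero, on a coordinate chart -/

set_option autoImplicit false
set_option linter.style.haveILetI false
set_option linter.unusedSectionVars false
set_option backward.isDefEq.respectTransparency false
set_option backward.isDefEq.respectTransparency.types false

universe u

open MvPolynomial

noncomputable section

namespace Groth.Agent.LefPen13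

variable {k : Type u} [Field k] [IsAlgClosed k] [CharZero k] {A : Type u} [CommRing A] [IsDomain A] [Algebra k A]
  [Algebra.Smooth k A] {n N : ℕ}

/-- The second derivatives of a member. -/
def hess (P : Coord k A n) (g : Fin N → A) (χ : A →ₐ[k] k) (hχ : χ P.f ≠ 0) (c : Fin N → k) :
    Matrix (Fin n) (Fin n) k :=
  Matrix.of fun l s => ∑ t, c t * P.pt χ hχ (P.pd s (P.pd l (algebraMap A P.B (g t))))

/-- Reflexivity: the tangency point is the gradient of the dual equation, and the tangency is non-degenerate. -/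
theorem char_zero_chart (P : Coord k A n) (hP : P.f ≠ 0) (g : Fin N → A)
    (hjet : ∀ χ : A →ₐ[k] k, ∀ z : A, ∃ c : Fin N → k, (∑ i, c i • g i) - z ∈ RingHom.ker χ ^ 2)
    (f : MvPolynomial (Fin N) k) (hf : Prime f) (p : Fin N) (hp : ¬ f ∣ pderiv p f)
    (hfS : ∀ (χ : A →ₐ[k] k) c, Bad g χ c → MvPolynomial.eval c f = 0)
    (hmax : ∀ G : MvPolynomial (Fin N) k,
      (∀ (χ : A →ₐ[k] k) c, χ P.f ≠ 0 → Bad g χ c → MvPolynomial.eval c G = 0) → f ∣ G) :
    (∀ (χ : A →ₐ[k] k) c, χ P.f ≠ 0 → Bad g χ c → ∀ s t,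
      χ (g t) * MvPolynomial.eval c (pderiv s f) = χ (g s) * MvPolynomial.eval c (pderiv t f)) ∧
    ∃ (χ : A →ₐ[k] k) (hχ : χ P.f ≠ 0) (c : Fin N → k),
      Bad g χ c ∧ MvPolynomial.eval c (pderiv p f) ≠ 0 ∧ (hess P g χ hχ c).det ≠ 0 := by
  classical
  haveI : IsDomain P.B := IsLocalization.isDomain_localization (powers_le_nonZeroDivisors_of_noZeroDivisors hP)
  haveI : Algebra.FiniteType k P.B :=
    Algebra.FiniteType.trans (S := A) inferInstance (IsLocalization.finiteType_of_monoid_fg (Submonoid.powers P.f) P.B)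
  obtain ⟨ψ, hψ1, hψ2⟩ := exists_param g hjet P.piece hP
  obtain ⟨σ, hσ⟩ := P.piece.exists_section g hjet
  let C : Fin N → MvPolynomial (Fin N) P.B := fun t => ψ (MvPolynomial.X t)
  have hψ : ∀ G, ψ G = MvPolynomial.aeval C G := fun G => by
    conv_lhs => rw [MvPolynomial.aeval_unique ψ]
    rfl
  -- points
  have hpts : ∀ (χB : P.B →ₐ[k] k) (z : Fin N → k), ∃ (χ : A →ₐ[k] k) (hχ : χ P.f ≠ 0) (c : Fin N → k),
      Bad g χ c ∧ P.pt χ hχ = χB ∧ ∀ G, MvPolynomial.eval₂ χB.toRingHom z (ψ G) = MvPolynomial.eval c G := by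
    intro χB z
    let χ : A →ₐ[k] k := χB.comp (IsScalarTower.toAlgHom k A P.B)
    have hχ : χ P.f ≠ 0 := ((IsLocalization.Away.algebraMap_isUnit (S := P.B) P.f).map χB).ne_zero
    have e : P.pt χ hχ = χB :=
      AlgHom.coe_ringHom_injective (IsLocalization.ringHom_ext (Submonoid.powers P.f)
        (RingHom.ext fun a => P.piece.pt_algebraMap χ hχ a))
    let c' : Fin N → k := fun t => MvPolynomial.eval₂ χB.toRingHom z (C t)
    have hc' : ∀ G, MvPolynomial.eval₂ χB.toRingHom z (ψ G) = MvPolynomial.eval c' G := fun G => by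
      rw [hψ]
      induction G using MvPolynomial.induction_on with
      | C a =>
        rw [MvPolynomial.aeval_C, IsScalarTower.algebraMap_apply k P.B (MvPolynomial (Fin N) P.B),
          MvPolynomial.algebraMap_eq, MvPolynomial.eval₂_C, MvPolynomial.eval_C]
        exact χB.commutes a
      | add u v hu hv => rw [map_add, MvPolynomial.eval₂_add, hu, hv, map_add]
      | mul_X u t hu => rw [map_mul, MvPolynomial.eval₂_mul, hu, MvPolynomial.aeval_X, map_mul, MvPolynomial.eval_X]
    refine ⟨χ, hχ, c', ?_, e, hc'⟩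
    rw [P.piece.bad_iff g χ hχ]
    intro o
    -- the equation is linear, hence holds at the parametrised vector
    obtain ⟨c₀, hc₀, hc₀'⟩ := hψ1 (∑ i, MvPolynomial.C (P.piece.pt χ hχ (BertiniJets13.row P.piece.b
      (algebraMap A P.B (g i)) o)) * MvPolynomial.X i) χ hχ z
    have h1 : MvPolynomial.eval₂ χB.toRingHom z (ψ (∑ i, MvPolynomial.C (P.piece.pt χ hχ (BertiniJets13.row P.piece.b
      (algebraMap A P.B (g i)) o)) * MvPolynomial.X i)) = _ :=
      (congrArg (fun φ : P.B →ₐ[k] k => MvPolynomial.eval₂ φ.toRingHom z _) e).symm.trans hc₀'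
    rw [hc'] at h1
    simp only [map_sum, map_mul, MvPolynomial.eval_C, MvPolynomial.eval_X] at h1
    have h2 := (P.piece.bad_iff g χ hχ c₀).1 hc₀ o
    rw [← h2]
    refine Eq.trans (Finset.sum_congr rfl fun i _ => mul_comm _ _) (h1.trans ?_)
    exact Finset.sum_congr rfl fun i _ => mul_comm _ _
  let R : Fin N → Option (Fin n) → P.B := fun t o => P.jrow (g t) o
  have hrel : ∀ o, ∑ t, C t * MvPolynomial.C (R t o) = 0 := fun o => eq_zero_of_forall_pt (k := k) _ fun χB z => by
    obtain ⟨χ, hχ, c, hc, e, hev⟩ := hpts χB z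
    rw [← MvPolynomial.coe_eval₂Hom, map_sum]
    refine Eq.trans (Finset.sum_congr rfl fun t _ => ?_) ((P.piece.bad_iff g χ hχ c).1 hc o)
    rw [map_mul, MvPolynomial.eval₂Hom_C, MvPolynomial.coe_eval₂Hom, hev, MvPolynomial.eval_X, ← e]
    rfl
  have hker : ∀ G, MvPolynomial.aeval C G = 0 ↔ f ∣ G := by
    intro G
    constructor
    · intro h0
      refine hmax G fun χ c hχ hc => ?_
      rw [← hψ2 G χ hχ c hc, hψ, h0, MvPolynomial.eval₂_zero]
    · rintro ⟨G', rfl⟩
      rw [map_mul]
      refine mul_eq_zero_of_left (eq_zero_of_forall_pt (k := k) _ fun χB z => ?_) _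
      obtain ⟨χ, hχ, c, hc, e, hev⟩ := hpts χB z
      rw [← hψ, hev]
      exact hfS χ c hc
  -- the function field of the parameter space
  let T := MvPolynomial (Fin N) P.B
  let L := FractionRing T
  haveI : Algebra.FiniteType k T := Algebra.FiniteType.trans (S := P.B) (A := T) ‹Algebra.FiniteType k P.B› inferInstance
  haveI : Algebra.EssFiniteType T L := Algebra.EssFiniteType.of_isLocalization L (nonZeroDivisors T)
  haveI : Algebra.EssFiniteType k L := Algebra.EssFiniteType.comp k T L
  have hinj : Function.Injective (algebraMap T L) := IsFractionRing.injective T L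
  let C' : Fin N → L := fun t => algebraMap T L (C t)
  have hG : ∀ G : MvPolynomial (Fin N) k, MvPolynomial.aeval C' G = algebraMap T L (MvPolynomial.aeval C G) := fun G =>
    MvPolynomial.aeval_algebraMap_apply L C G
  have hker' : ∀ G : MvPolynomial (Fin N) k, MvPolynomial.aeval C' G = 0 ↔ f ∣ G := fun G => by
    rw [hG, map_eq_zero_iff _ hinj, hker]
  let R' : Fin N → Option (Fin n) → L := fun t o => algebraMap P.B L (R t o)
  have hrel' : ∀ o, ∑ t, C' t * R' t o = 0 := fun o => by
    have := congrArg (algebraMap T L) (hrel o)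
    rw [map_sum, map_zero] at this
    refine Eq.trans (Finset.sum_congr rfl fun t _ => ?_) this
    rw [map_mul]
    rfl
  let γ : Fin N → L := fun t => MvPolynomial.aeval C' (pderiv t f)
  have hγp : γ p ≠ 0 := fun h => hp ((hker' _).1 h)
  -- derivations on the coordinates
  have hDB : ∀ (D : Derivation k L L) (z : P.B),
      D (algebraMap P.B L z) = ∑ l, algebraMap P.B L (P.pd l z) * D (algebraMap P.B L (algebraMap A P.B (P.y l))) := by
    intro D z
    let D' : Derivation k P.B L := D.compAlgebraMap P.B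
    have e : ∀ w, D' w = D'.liftKaehlerDifferential (KaehlerDifferential.D k P.B w) := fun w =>
      (D'.liftKaehlerDifferential_comp_D w).symm
    show D' z = _
    rw [e z, ← P.b.sum_repr (KaehlerDifferential.D k P.B z), map_sum]
    refine Finset.sum_congr rfl fun l _ => ?_
    rw [map_smul, P.hb, ← e, Algebra.smul_def]
    rfl
  let H : Matrix (Fin n) (Fin n) T :=
    Matrix.of fun l s => ∑ t, C t * MvPolynomial.C (P.pd s (P.pd l (algebraMap A P.B (g t))))
  let Rd : Fin N → Option (Fin n) → Fin n → L := fun t o s => algebraMap P.B L (P.pd s (R t o))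
  let S : Option (Fin n) → Fin N → L := fun o t => algebraMap P.B L (σ (Pi.single o 1) t)
  have hS : ∀ o o', ∑ t, S o t * R' t o' = if o = o' then 1 else 0 := by
    intro o o'
    have h := congrFun (hσ (Pi.single o 1)) o'
    have h' : ∑ t, σ (Pi.single o 1) t * R t o' = (Pi.single o 1 : Option (Fin n) → P.B) o' := by
      rw [← h, BertiniJets13.jac, Fintype.linearCombination_apply, Finset.sum_apply]
      rfl
    have e := congrArg (algebraMap P.B L) h'
    rw [map_sum, Pi.single_apply, apply_ite (algebraMap P.B L), map_one, map_zero] at e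
    refine Eq.trans (Finset.sum_congr rfl fun t _ => (map_mul (algebraMap P.B L) _ _).symm) (e.trans ?_)
    exact if_congr eq_comm rfl rfl
  obtain ⟨hid, hdetL⟩ := reflexive_step C' γ R' Rd hrel' (fun _ _ => rfl)
    (fun D s => D (algebraMap P.B L (algebraMap A P.B (P.y s)))) (fun D t o => hDB D (R t o)) S hS
    (fun w hw => exists_derivation C' f hf hker' w hw) p hγp
  refine ⟨fun χ c hχ hc s t => ?_, ?_⟩
  · have h0 : MvPolynomial.C (R t none) * MvPolynomial.aeval C (pderiv s f) =
        MvPolynomial.C (R s none) * MvPolynomial.aeval C (pderiv t f) := hinj (by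
      rw [map_mul, map_mul, ← hG, ← hG]
      exact hid s t)
    have := congrArg (MvPolynomial.eval₂Hom (P.pt χ hχ).toRingHom c) h0
    simp only [map_mul, MvPolynomial.eval₂Hom_C] at this
    simp only [MvPolynomial.coe_eval₂Hom, ← hψ] at this
    erw [hψ2 _ χ hχ c hc, hψ2 _ χ hχ c hc] at this
    have hv : ∀ x, (P.pt χ hχ).toRingHom (R x none) = χ (g x) := fun x => P.piece.pt_algebraMap χ hχ (g x)
    rwa [hv, hv] at this
  · have hdet : H.det ≠ 0 := by
      intro hd
      apply hdetL
      rw [show (Matrix.of fun l s => ∑ t, C' t * Rd t (some l) s) = (algebraMap T L).mapMatrix H from ?_,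
        ← RingHom.map_det, hd, map_zero]
      ext l s
      show _ = algebraMap T L (H l s)
      simp only [H, Matrix.of_apply, map_sum, map_mul]
      rfl
    have hne : H.det * MvPolynomial.aeval C (pderiv p f) ≠ 0 :=
      mul_ne_zero hdet fun h => hp ((hker _).1 h)
    obtain ⟨χB, z, hz⟩ : ∃ (χB : P.B →ₐ[k] k) (z : Fin N → k),
        MvPolynomial.eval₂ χB.toRingHom z (H.det * MvPolynomial.aeval C (pderiv p f)) ≠ 0 := by
      by_contra! hall
      exact hne (eq_zero_of_forall_pt (k := k) _ hall)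
    obtain ⟨χ, hχ, c, hc, e, hev⟩ := hpts χB z
    rw [MvPolynomial.eval₂_mul, mul_ne_zero_iff, ← hψ, hev] at hz
    refine ⟨χ, hχ, c, hc, hz.2, fun hd => hz.1 ?_⟩
    rw [← MvPolynomial.coe_eval₂Hom, RingHom.map_det, ← hd]
    congr 1
    ext l s
    show MvPolynomial.eval₂Hom χB.toRingHom z (H l s) = _
    simp only [H, Matrix.of_apply, hess, map_sum, map_mul, MvPolynomial.eval₂Hom_C]
    refine Finset.sum_congr rfl fun t _ => ?_
    rw [MvPolynomial.coe_eval₂Hom, hev, MvPolynomial.eval_X, ← e]
    rfl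

end Groth.Agent.LefPen13
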